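import Cfsg.Agent.H822.Cls.Props

/-!
# The field generated by an abelian normal subgroup of a primitive linear group (task T1a of S4148)
-/

set_option autoImplicit false
set_option linter.style.haveILetI false

namespace Cfsg.Agent.H24.Cls

open scoped Pointwise commutatorElement
open Cfsg.Agent.H822.Cls

universe u

section Alg

variable {L U : Type u} [Group L] [AddCommGroup U] [DistribMulAction L U]

/-- The action as a homomorphism to the endomorphism ring. -/
abbrev rho (L U : Type u) [Group L] [AddCommGroup U] [DistribMulAction L U] : L →* AddMonoid.End U :=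
  DistribMulAction.toAddMonoidEnd L U

/-- The ring generated by a subgroup. -/
def algA (U : Type u) [AddCommGroup U] [DistribMulAction L U] (A : Subgroup L) : Subring (AddMonoid.End U) :=
  Subring.closure ((rho L U) '' (A : Set L))

/-- Conjugation on the endomorphism ring. -/
def cj (U : Type u) [AddCommGroup U] [DistribMulAction L U] (g : L) : AddMonoid.End U →+* AddMonoid.End U where
  toFun f := rho L U g * f * rho L U g⁻¹
  map_one' := by rw [mul_one, ← map_mul, mul_inv_cancel, map_one]
  map_mul' a b := by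
    have h : rho L U g⁻¹ * rho L U g = 1 := by rw [← map_mul, inv_mul_cancel, map_one]
    calc rho L U g * (a * b) * rho L U g⁻¹ = rho L U g * a * 1 * b * rho L U g⁻¹ := by
          rw [mul_one, mul_assoc (rho L U g) a b]
      _ = _ := by rw [← h]; simp only [mul_assoc]
  map_zero' := by rw [mul_zero, zero_mul]
  map_add' a b := by rw [mul_add, add_mul]

theorem cj_apply (g : L) (f : AddMonoid.End U) (u : U) : cj U g f (g • u) = g • f u := by
  change g • f (g⁻¹ • (g • u)) = g • f u
  rw [inv_smul_smul]

theorem cj_one (f : AddMonoid.End U) : cj U (1 : L) f = f := by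
  ext u
  change (1 : L) • f ((1 : L)⁻¹ • u) = f u
  rw [inv_one, one_smul, one_smul]

theorem cj_mul (g h : L) (f : AddMonoid.End U) : cj U (g * h) f = cj U g (cj U h f) := by
  ext u
  change (g * h) • f ((g * h)⁻¹ • u) = g • (h • f (h⁻¹ • (g⁻¹ • u)))
  rw [mul_inv_rev, mul_smul, mul_smul]

theorem cj_mem (A : Subgroup L) (hA : A.Normal) (g : L) {f : AddMonoid.End U} (hf : f ∈ algA U A) :
    cj U g f ∈ algA U A := by
  have h : algA U A ≤ (algA U A).comap (cj U g) := by
    unfold algA
    rw [Subring.closure_le]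
    rintro _ ⟨a, ha, rfl⟩
    refine Subring.subset_closure ⟨g * a * g⁻¹, hA.conj_mem a ha g, ?_⟩
    rw [map_mul, map_mul]
    rfl
  exact h hf

/-- Conjugation on the ring generated by a normal subgroup. -/
def cjA (A : Subgroup L) (hA : A.Normal) : L →* (algA U A ≃+* algA U A) where
  toFun g :=
    { toFun := fun f => ⟨cj U g f, cj_mem A hA g f.2⟩
      invFun := fun f => ⟨cj U g⁻¹ f, cj_mem A hA g⁻¹ f.2⟩
      left_inv := fun f => Subtype.ext (by
        change cj U g⁻¹ (cj U g f) = f
        rw [← cj_mul, inv_mul_cancel, cj_one])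
      right_inv := fun f => Subtype.ext (by
        change cj U g (cj U g⁻¹ f) = f
        rw [← cj_mul, mul_inv_cancel, cj_one])
      map_mul' := fun a b => Subtype.ext (map_mul (cj U g) a.1 b.1)
      map_add' := fun a b => Subtype.ext (map_add (cj U g) a.1 b.1) }
  map_one' := RingEquiv.ext fun f => Subtype.ext (cj_one f.1)
  map_mul' g h := RingEquiv.ext fun f => Subtype.ext (cj_mul g h f.1)

theorem cjA_apply (A : Subgroup L) (hA : A.Normal) (g : L) (f : algA U A) (u : U) :
    ((cjA A hA g f : algA U A) : AddMonoid.End U) (g • u) = g • (f : AddMonoid.End U) u :=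
  cj_apply g f u

theorem cjA_ker (hfaith : ∀ g : L, (∀ u : U, g • u = u) → g = 1) (A : Subgroup L) (hA : A.Normal) :
    (cjA (U := U) A hA).ker = Subgroup.centralizer (A : Set L) := by
  have hinj : ∀ g h : L, (∀ u : U, g • u = h • u) → g = h := by
    intro g h hgh
    have : h⁻¹ * g = 1 := hfaith _ fun u => by rw [mul_smul, hgh, inv_smul_smul]
    rw [inv_mul_eq_one] at this
    exact this.symm
  ext g
  rw [MonoidHom.mem_ker, Subgroup.mem_centralizer_iff]
  constructor
  · intro h a ha
    apply hinj
    intro u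
    have h1 := cjA_apply (U := U) A hA g ⟨rho L U a, Subring.subset_closure ⟨a, ha, rfl⟩⟩ u
    rw [h] at h1
    rw [mul_smul, mul_smul]
    exact h1
  · intro h
    have h2 : algA U A ≤ (cj U g).eqLocus (RingHom.id (AddMonoid.End U)) := by
      unfold algA
      rw [Subring.closure_le]
      rintro _ ⟨a, ha, rfl⟩
      change cj U g (rho L U a) = rho L U a
      change rho L U g * rho L U a * rho L U g⁻¹ = rho L U a
      rw [← map_mul, ← h a ha, ← map_mul, mul_inv_cancel_right]
    exact RingEquiv.ext fun f => Subtype.ext (h2 f.2)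

theorem algA_comm (A : Subgroup L) (hAc : IsMulCommutative A) (x y : algA U A) : x * y = y * x := by
  apply Subtype.ext
  have h1 : ∀ x ∈ (rho L U) '' (A : Set L), ∀ y ∈ (rho L U) '' (A : Set L), x * y = y * x := by
    rintro _ ⟨a, ha, rfl⟩ _ ⟨b, hb, rfl⟩
    rw [← map_mul, ← map_mul]
    exact congrArg _ (congrArg Subtype.val (isMulCommutative_iff.1 hAc ⟨a, ha⟩ ⟨b, hb⟩))
  have hx : (x : AddMonoid.End U) ∈ Subring.centralizer ((rho L U) '' (A : Set L)) := by
    have : algA U A ≤ Subring.centralizer ((rho L U) '' (A : Set L)) := by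
      unfold algA
      rw [Subring.closure_le]
      intro z hz
      rw [SetLike.mem_coe, Subring.mem_centralizer_iff]
      exact fun w hw => h1 w hw z hz
    exact this x.2
  have hy : (y : AddMonoid.End U) ∈ Subring.centralizer ({(x : AddMonoid.End U)} : Set (AddMonoid.End U)) := by
    have : algA U A ≤ Subring.centralizer ({(x : AddMonoid.End U)} : Set (AddMonoid.End U)) := by
      unfold algA
      rw [Subring.closure_le]
      intro z hz
      rw [SetLike.mem_coe, Subring.mem_centralizer_iff]
      rintro w hw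
      rw [Set.mem_singleton_iff] at hw
      subst hw
      exact ((Subring.mem_centralizer_iff.1 hx) z hz).symm
    exact this y.2
  exact (Subring.mem_centralizer_iff.1 hy) _ (Set.mem_singleton _)

end Alg

/-- Vectors killed by an ideal. -/
def tor {B U : Type u} [CommRing B] [AddCommGroup U] [Module B U] (I : Ideal B) : AddSubgroup U where
  carrier := {u | ∀ b ∈ I, b • u = 0}
  zero_mem' := fun b _ => smul_zero b
  add_mem' := by
    intro x y hx hy b hb
    rw [smul_add, hx b hb, hy b hb, add_zero]
  neg_mem' := by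
    intro x hx b hb
    rw [smul_neg, hx b hb, neg_zero]

theorem mem_tor {B U : Type u} [CommRing B] [AddCommGroup U] [Module B U] (I : Ideal B) (u : U) :
    u ∈ tor (U := U) I ↔ ∀ b ∈ I, b • u = 0 := Iff.rfl

/-- A finite commutative ring acting faithfully on a primitive irreducible module, normalised by the group, is a
field. -/
theorem isField_of_primitive {L U B : Type u} [Group L] [AddCommGroup U] [Finite U] [Nontrivial U]
    [DistribMulAction L U] [CommRing B] [Finite B] [Module B U]
    (hfB : ∀ b : B, (∀ u : U, b • u = 0) → b = 0) (σ : L → (B ≃+* B))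
    (hσ : ∀ (g : L) (b : B) (u : U), g • (b • u) = σ g b • (g • u))
    (hσ' : ∀ (g : L) (b : B) (u : U), g⁻¹ • (σ g b • (g • u)) = b • u)
    (hirr : Irr L U) (hprim : ¬ Imprim L U) : IsField B := by
  classical
  haveI : Nontrivial B := by
    refine ⟨⟨1, 0, fun h => ?_⟩⟩
    obtain ⟨u, hu⟩ := exists_ne (0 : U)
    apply hu
    rw [← one_smul B u, h, zero_smul]
  -- the system
  let 𝒟 : Set (AddSubgroup U) := {D | D ≠ ⊥ ∧ ∃ I : Ideal B, I.IsMaximal ∧ D = tor I}
  have hgD : ∀ g : L, ∀ D ∈ 𝒟, g • D ∈ 𝒟 := by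
    rintro g D ⟨hDb, I, hI, rfl⟩
    refine ⟨?_, I.map (σ g : B →+* B), ?_, ?_⟩
    · intro h
      apply hDb
      rw [eq_bot_iff]
      intro u hu
      have h1 : g • u ∈ g • (tor I : AddSubgroup U) := AddSubgroup.smul_mem_pointwise_smul u g _ hu
      rw [h, AddSubgroup.mem_bot, smul_eq_zero_iff_eq] at h1
      rw [AddSubgroup.mem_bot]
      exact h1
    · exact Ideal.map_isMaximal_of_equiv (σ g)
    · ext u
      rw [AddSubgroup.mem_smul_pointwise_iff_exists]
      constructor
      · rintro ⟨w, hw, rfl⟩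
        intro b hb
        obtain ⟨c, hc, rfl⟩ := (Ideal.mem_map_iff_of_surjective (σ g : B →+* B) (σ g).surjective).1 hb
        change σ g c • (g • w) = 0
        rw [← hσ, hw c hc, smul_zero]
      · intro hu
        refine ⟨g⁻¹ • u, fun b hb => ?_, smul_inv_smul g u⟩
        have h1 := hu (σ g b) (Ideal.mem_map_of_mem (σ g : B →+* B) hb)
        rw [← hσ' g b (g⁻¹ • u), smul_inv_smul, h1, smul_zero]
  -- it is not empty
  have hne : ∃ D, D ∈ 𝒟 := by
    obtain ⟨u, hu⟩ := exists_ne (0 : U)
    obtain ⟨P, hP, -⟩ := exists_le_isAssociatedPrime_of_isNoetherianRing B u hu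
    rw [isAssociatedPrime_iff] at hP
    obtain ⟨hP, y, hy⟩ := hP
    have hPm : P.IsMaximal := IsArtinianRing.isMaximal_of_isPrime P
    refine ⟨tor P, ?_, P, hPm, rfl⟩
    intro h
    have h1 : y ∈ (tor P : AddSubgroup U) := by
      intro b hb
      rw [hy, Submodule.mem_colon_singleton] at hb
      exact (Submodule.mem_bot B).1 hb
    rw [h, AddSubgroup.mem_bot] at h1
    apply hP.ne_top
    rw [hy, h1, Ideal.eq_top_iff_one, Submodule.mem_colon_singleton, smul_zero]
    exact Submodule.zero_mem _
  -- independence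
  have hind : sSupIndep 𝒟 := by
    rintro D ⟨hDb, I, hI, rfl⟩
    haveI : Finite (Ideal B) := Finite.of_injective (fun I : Ideal B => (I : Set B)) SetLike.coe_injective
    let s : Finset (Ideal B) := (Set.toFinite {K : Ideal B | K.IsMaximal ∧ K ≠ I}).toFinset
    have hs : ∀ K, K ∈ s ↔ K.IsMaximal ∧ K ≠ I := fun K => (Set.Finite.mem_toFinset _)
    have hJ : I ⊔ ⨅ K ∈ s, K = ⊤ := by
      apply Ideal.sup_iInf_eq_top
      intro K hK
      exact Ideal.IsMaximal.coprime_of_ne hI ((hs K).1 hK).1 ((hs K).1 hK).2.symm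
    have hle : sSup (𝒟 \ {tor I}) ≤ tor (U := U) (⨅ K ∈ s, K) := by
      refine sSup_le ?_
      rintro D ⟨⟨hDb', K, hK, rfl⟩, hne⟩
      have hKI : K ≠ I := by
        rintro rfl
        exact hne rfl
      intro u hu b hb
      refine hu b ?_
      have h1 : (⨅ K ∈ s, K) ≤ K := iInf₂_le K ((hs K).2 ⟨hK, hKI⟩)
      exact h1 hb
    rw [disjoint_iff, eq_bot_iff]
    intro u hu
    obtain ⟨hu1, hu2⟩ := AddSubgroup.mem_inf.1 hu
    have h1 : (1 : B) ∈ I ⊔ ⨅ K ∈ s, K := by rw [hJ]; exact Submodule.mem_top
    obtain ⟨a, ha, b, hb, hab⟩ := Submodule.mem_sup.1 h1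
    rw [AddSubgroup.mem_bot, ← one_smul B u, ← hab, add_smul, hu1 a ha, hle hu2 b hb, add_zero]
  -- the sum
  have hsum : sSup 𝒟 = ⊤ := by
    refine (hirr (sSup 𝒟) ?_).resolve_left ?_
    · intro g w hw
      have h1 : sSup 𝒟 ≤ (sSup 𝒟).comap (DistribMulAction.toAddMonoidEnd L U g) := by
        refine sSup_le fun D hD => ?_
        intro v hv
        have h2 : g • v ∈ g • D := AddSubgroup.smul_mem_pointwise_smul v g D hv
        exact le_sSup (hgD g D hD) h2
      exact h1 hw
    · intro h
      obtain ⟨D, hD⟩ := hne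
      apply hD.1
      rw [eq_bot_iff, ← h]
      exact le_sSup hD
  have hone : 𝒟.ncard < 2 := by
    by_contra h
    exact hprim ⟨𝒟, Set.toFinite _, not_lt.1 h, fun D hD => hD.1, hgD, hind, hsum⟩
  obtain ⟨D, hD⟩ := hne
  have h𝒟 : 𝒟 = {D} := by
    have h1 : 0 < 𝒟.ncard := (Set.ncard_pos (Set.toFinite _)).2 ⟨D, hD⟩
    have h2 : 𝒟.ncard = 1 := by omega
    obtain ⟨D', hD'⟩ := Set.ncard_eq_one.1 h2
    rw [hD'] at hD ⊢
    rw [Set.mem_singleton_iff.1 hD]
  rw [h𝒟, sSup_singleton] at hsum
  obtain ⟨hDb, I, hI, hDI⟩ := hD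
  have hIb : I = ⊥ := by
    rw [eq_bot_iff]
    intro b hb
    rw [Ideal.mem_bot]
    apply hfB
    intro u
    have h1 : u ∈ (tor I : AddSubgroup U) := by rw [← hDI, hsum]; exact AddSubgroup.mem_top u
    exact h1 b hb
  rw [hIb] at hI
  exact Ring.isField_iff_maximal_bot.2 hI

set_option linter.unusedVariables false in
/-- The field generated by an abelian normal subgroup of a primitive linear group. -/
theorem exists_field {L U : Type u} [Group L] [Finite L] [AddCommGroup U] [Finite U]
    [Nontrivial U] [DistribMulAction L U] {r : ℕ} (hr : r.Prime) (hrU : ∀ u : U, r • u = 0)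
    (hfaith : ∀ g : L, (∀ u : U, g • u = u) → g = 1) (hirr : Irr L U) (hprim : ¬ Imprim L U) (A : Subgroup L)
    (hA : A.Normal) (hAc : IsMulCommutative A) :
    ∃ (F : Type u) (_ : Field F) (_ : Finite F) (_ : Module F U) (σ : L →* (F ≃+* F)) (ι : A →* Fˣ),
      (∀ (g : L) (κ : F) (u : U), g • (κ • u) = σ g κ • (g • u)) ∧
      (∀ (a : A) (u : U), (a : L) • u = ((ι a : Fˣ) : F) • u) ∧ Function.Injective ι ∧
      σ.ker = Subgroup.centralizer (A : Set L) := by
  classical
  haveI : Finite (AddMonoid.End U) := Finite.of_injective (fun f : AddMonoid.End U => (f : U → U)) DFunLike.coe_injective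
  letI : CommRing (algA U A) := { (inferInstance : Ring (algA U A)) with mul_comm := algA_comm A hAc }
  have hF : IsField (algA U A) := by
    refine isField_of_primitive (L := L) (U := U) ?_ (cjA A hA) ?_ ?_ hirr hprim
    · intro b hb
      exact Subtype.ext (AddMonoidHom.ext hb)
    · intro g b u
      exact (cjA_apply A hA g b u).symm
    · intro g b u
      have h1 := cjA_apply A hA g b u
      change g⁻¹ • (((cjA A hA g b : algA U A) : AddMonoid.End U) (g • u)) = _
      rw [h1, inv_smul_smul]
      rfl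
  letI fld : Field (algA U A) := hF.toField
  let i0 : A →* algA U A :=
    { toFun := fun a => ⟨rho L U (a : L), Subring.subset_closure ⟨a, a.2, rfl⟩⟩
      map_one' := Subtype.ext (map_one (rho L U))
      map_mul' := fun a b => Subtype.ext (map_mul (rho L U) (a : L) (b : L)) }
  refine ⟨algA U A, fld, inferInstance, inferInstance, cjA A hA, i0.toHomUnits, ?_, ?_, ?_, cjA_ker hfaith A hA⟩
  · intro g κ u
    exact (cjA_apply A hA g κ u).symm
  · intro a u
    rfl
  · rw [injective_iff_map_eq_one]
    intro a ha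
    apply Subtype.ext
    apply hfaith
    intro u
    have h1 : i0 a = 1 := congrArg Units.val ha
    have h2 : rho L U (a : L) = 1 := congrArg Subtype.val h1
    exact DFunLike.congr_fun h2 u

end Cfsg.Agent.H24.Cls
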